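import Groth.Agent.Lib.HensH7.Integral
import Groth.Agent.Lib.Hens.Henselization
import Groth.Agent.Lib.FlatDesc26.Basic
import Mathlib.AlgebraicGeometry.Morphisms.Integral
import Mathlib.AlgebraicGeometry.Morphisms.ClosedImmersion
import Mathlib.AlgebraicGeometry.Morphisms.Preimmersion
import Mathlib.AlgebraicGeometry.Limits
import Mathlib.AlgebraicGeometry.Morphisms.Proper

/-! # Schemes dominated surjectively by integral schemes with finite fibres -/

universe u

open CategoryTheory CategoryTheory.Limits AlgebraicGeometry TopologicalSpace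

namespace Groth.Agent.IntImage26

/-- A separated scheme over a henselian local ring which is the image of an integral scheme with
finitely many closed points is affine. -/
theorem isAffine_of_henselian_aux {A B : CommRingCat.{u}} [HenselianLocalRing A] {Z : Scheme.{u}}
    (φ : A ⟶ B) (hφ : φ.hom.IsIntegral) (h : Spec B ⟶ Z) [Surjective h] (g : Z ⟶ Spec A) [IsSeparated g]
    (hg : h ≫ g = Spec.map φ) (hfin : ((Spec.map φ).base ⁻¹' {IsLocalRing.closedPoint A}).Finite) :
    IsAffine Z := by
  algebraize [φ.hom]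
  haveI : IsIntegralHom (h ≫ g) := by rw [hg, IsIntegralHom.SpecMap_iff]; exact hφ
  haveI : UniversallyClosed h := UniversallyClosed.of_comp_of_isSeparated h g
  have hcl : IsClosedMap h := h.isClosedMap
  -- every prime of `B` lies in a unique maximal ideal
  have huniq : ∀ (p : PrimeSpectrum B) (m m' : PrimeSpectrum B), m.asIdeal.IsMaximal → m'.asIdeal.IsMaximal →
      p.asIdeal ≤ m.asIdeal → p.asIdeal ≤ m'.asIdeal → m = m' := by
    intro p m m' hm hm' h1 h2
    haveI : IsLocalRing (B ⧸ p.asIdeal) := HensH7.isLocalRing_of_integral_domain A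
    haveI := hm; haveI := hm'
    have hmax : ∀ (q : Ideal B), q.IsMaximal → p.asIdeal ≤ q →
        q.map (Ideal.Quotient.mk p.asIdeal) = IsLocalRing.maximalIdeal (B ⧸ p.asIdeal) := fun q hq hpq =>
      IsLocalRing.eq_maximalIdeal ((Ideal.map_eq_top_or_isMaximal_of_surjective _ Ideal.Quotient.mk_surjective
        hq).resolve_left fun ht => hq.ne_top (by
          have e := Ideal.comap_map_of_surjective' (Ideal.Quotient.mk p.asIdeal) Ideal.Quotient.mk_surjective q
          rw [Ideal.mk_ker, sup_eq_left.2 hpq, ht, Ideal.comap_top] at e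
          exact e.symm))
    ext1
    have e := (hmax _ hm h1).trans (hmax _ hm' h2).symm
    calc m.asIdeal = (m.asIdeal.map (Ideal.Quotient.mk p.asIdeal)).comap (Ideal.Quotient.mk p.asIdeal) := by
          rw [Ideal.comap_map_of_surjective' _ Ideal.Quotient.mk_surjective, Ideal.mk_ker, sup_eq_left.2 h1]
      _ = m'.asIdeal := by
          rw [e, Ideal.comap_map_of_surjective' _ Ideal.Quotient.mk_surjective, Ideal.mk_ker, sup_eq_left.2 h2]
  -- the closed points of `B` form a finite set
  let M : Set (Spec B) := {m : PrimeSpectrum B | m.asIdeal.IsMaximal}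
  have hM : M.Finite := hfin.subset fun m hm => by
    haveI : m.asIdeal.IsMaximal := hm
    refine PrimeSpectrum.ext ?_
    exact IsLocalRing.eq_maximalIdeal (Ideal.isMaximal_comap_of_isIntegral_of_isMaximal (R := A) m.asIdeal)
  let G : Spec B → Set (Spec B) := fun m => {p : PrimeSpectrum B | p.asIdeal ≤ (m : PrimeSpectrum B).asIdeal}
  have hG : ∀ m ∈ M, IsClosed (G m) := by
    intro m hm
    haveI : (m : PrimeSpectrum B).asIdeal.IsPrime := (m : PrimeSpectrum B).isPrime
    have e : G m = Set.range (PrimeSpectrum.comap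
        (algebraMap B (Localization.AtPrime (m : PrimeSpectrum B).asIdeal))) := by
      rw [PrimeSpectrum.localization_comap_range _ (m : PrimeSpectrum B).asIdeal.primeCompl]
      ext p
      simp only [G, Set.mem_setOf_eq, Ideal.primeCompl]
      exact ⟨fun hp => Set.disjoint_left.2 fun x hx hx' => hx (hp hx'),
        fun hp x hx => by_contra fun hn => Set.disjoint_left.1 hp hn hx⟩
    rw [e]
    refine PrimeSpectrum.isClosed_range_of_stableUnderSpecialization _ ?_
    rw [← e]
    intro p q hpq hp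
    obtain ⟨m', hm', hqm'⟩ := Ideal.exists_le_maximal _ (q : PrimeSpectrum B).isPrime.ne_top
    have hle : (p : PrimeSpectrum B).asIdeal ≤ (q : PrimeSpectrum B).asIdeal :=
      (PrimeSpectrum.le_iff_specializes _ _).2 hpq
    obtain rfl := huniq p m ⟨m', hm'.isPrime⟩ hm hm' hp (hle.trans hqm')
    exact hqm'
  -- closed points of `Z`
  let C : Set Z := {y | IsClosed ({y} : Set Z)}
  have hlift : ∀ (y : Z) (p : Spec B), IsClosed ({y} : Set Z) → h p ⤳ y →
      ∃ m ∈ M, p ∈ G m ∧ h m = y := by
    intro y p hy hpy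
    have : y ∈ h '' closure {p} := by
      have := hpy.mem_closed (hcl _ isClosed_closure) ⟨p, subset_closure (Set.mem_singleton p), rfl⟩
      exact this
    obtain ⟨q, hq, rfl⟩ := this
    obtain ⟨m', hm', hqm'⟩ := Ideal.exists_le_maximal _ (q : PrimeSpectrum B).isPrime.ne_top
    have hpq : (p : PrimeSpectrum B).asIdeal ≤ (q : PrimeSpectrum B).asIdeal :=
      (PrimeSpectrum.le_iff_specializes _ _).2 (specializes_iff_mem_closure.2 hq)
    refine ⟨(⟨m', hm'.isPrime⟩ : PrimeSpectrum B), hm', hpq.trans hqm', ?_⟩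
    have hs : h q ⤳ h (⟨m', hm'.isPrime⟩ : PrimeSpectrum B) :=
      Specializes.map ((PrimeSpectrum.le_iff_specializes (q : PrimeSpectrum B) ⟨m', hm'.isPrime⟩).1 hqm') h.continuous
    exact Set.mem_singleton_iff.1 (hs.mem_closed hy rfl)
  have hC : C.Finite := (hM.image h).subset fun y hy => by
    obtain ⟨p, rfl⟩ := h.surjective y
    obtain ⟨m, hm, -, e⟩ := hlift _ p hy specializes_rfl
    exact ⟨m, hm, e⟩
  haveI : Finite C := hC.to_subtype
  let T : C → Set Z := fun y => h '' ⋃ m ∈ {m | m ∈ M ∧ h m = y.1}, G m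
  have hT : ∀ y, IsClosed (T y) := fun y =>
    hcl _ ((hM.subset fun m hm => hm.1).isClosed_biUnion fun m hm => hG m hm.1)
  have hspec : ∀ y, ∀ z ∈ T y, z ⤳ y.1 := by
    rintro y _ ⟨p, hp, rfl⟩
    simp only [Set.mem_iUnion, Set.mem_setOf_eq] at hp
    obtain ⟨m, ⟨hm, e⟩, hpm⟩ := hp
    rw [← e]
    exact Specializes.map ((PrimeSpectrum.le_iff_specializes (p : PrimeSpectrum B) m).1 hpm) h.continuous
  have hdisj : Pairwise fun y y' => Disjoint (T y) (T y') := by
    intro y y' hne
    refine Set.disjoint_left.2 fun z hz hz' => hne (Subtype.ext ?_)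
    obtain ⟨p, hp, rfl⟩ := hz
    simp only [Set.mem_iUnion, Set.mem_setOf_eq] at hp
    obtain ⟨m, ⟨hm, e⟩, hpm⟩ := hp
    obtain ⟨m', hm', hpm', e'⟩ := hlift y'.1 p y'.2 (hspec y' _ hz')
    rw [← e, ← e', huniq p m m' hm hm' hpm hpm']
  have hcov : ∀ z, ∃ y, z ∈ T y := by
    intro z
    obtain ⟨p, rfl⟩ := h.surjective z
    obtain ⟨m', hm', hpm'⟩ := Ideal.exists_le_maximal _ (p : PrimeSpectrum B).isPrime.ne_top
    have hclosed : IsClosed ({(⟨m', hm'.isPrime⟩ : PrimeSpectrum B)} : Set (PrimeSpectrum B)) :=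
      (PrimeSpectrum.isClosed_singleton_iff_isMaximal _).2 hm'
    refine ⟨⟨h (⟨m', hm'.isPrime⟩ : PrimeSpectrum B), by
      show IsClosed {h (⟨m', hm'.isPrime⟩ : PrimeSpectrum B)}
      exact Set.image_singleton (f := fun a => h a) ▸ hcl _ hclosed⟩, p, ?_, rfl⟩
    simp only [Set.mem_iUnion, Set.mem_setOf_eq]
    exact ⟨(⟨m', hm'.isPrime⟩ : PrimeSpectrum B), ⟨hm', rfl⟩, hpm'⟩
  have hopen : ∀ y, IsOpen (T y) := by
    intro y
    have e : T y = (⋃ y' ∈ {y' | y' ≠ y}, T y')ᶜ := by
      ext z
      simp only [Set.mem_compl_iff, Set.mem_iUnion, Set.mem_setOf_eq, not_exists]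
      refine ⟨fun hz y' hne hz' => Set.disjoint_left.1 (hdisj hne) hz' hz, fun hz => ?_⟩
      obtain ⟨y', hy'⟩ := hcov z
      by_contra hn
      exact hz y' (fun e => hn (e ▸ hy')) hy'
    rw [e]
    exact ((Set.toFinite _).isClosed_biUnion fun y' _ => hT y').isOpen_compl
  let O : C → Z.Opens := fun y => ⟨T y, hopen y⟩
  have hOaff : ∀ y, IsAffineOpen (O y) := by
    intro y
    obtain ⟨U, hU, hyU, -⟩ := exists_isAffineOpen_mem_and_subset (x := y.1) (U := ⊤) trivial
    have hle : O y ≤ U := fun z hz => (hspec y z hz).mem_open U.2 hyU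
    haveI : IsAffine U := hU
    haveI : IsClosedImmersion (Z.homOfLE hle) := by
      refine IsClosedImmersion.of_isPreimmersion _ ?_
      have e : Set.range (Z.homOfLE hle) = Subtype.val ⁻¹' T y := by
        ext a
        constructor
        · rintro ⟨b, rfl⟩
          show ((Z.homOfLE hle) b).1 ∈ T y
          rw [Scheme.homOfLE_apply]
          exact b.2
        · intro ha
          exact ⟨⟨a.1, ha⟩, Subtype.ext (Scheme.homOfLE_apply _ _)⟩
      rw [e]
      exact (hT y).preimage continuous_subtype_val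
    exact isAffine_of_isAffineHom (Z.homOfLE hle)
  have hsup : iSup O = ⊤ := by
    refine eq_top_iff.2 fun z _ => ?_
    obtain ⟨y, hy⟩ := hcov z
    exact Opens.mem_iSup.2 ⟨y, hy⟩
  have := IsAffineOpen.iSup_of_disjoint hOaff (fun y y' hne => by
    rw [Function.onFun, disjoint_iff, eq_bot_iff]
    exact fun z hz => Set.disjoint_left.1 (hdisj hne) hz.1 hz.2)
  rw [hsup] at this
  haveI : IsAffine (⊤ : Z.Opens).toScheme := this
  exact .of_isIso Z.topIso.inv

/-- Affine descent along a pointwise flat covering family. -/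
theorem isAffine_of_forall_point {X S : Scheme.{u}} [IsAffine S] (f : X ⟶ S) [QuasiCompact f] [QuasiSeparated f]
    (hcov : ∀ s : S, ∃ (T : Scheme.{u}) (u : T ⟶ S) (_ : Flat u) (_ : IsAffine T), s ∈ Set.range u ∧
      IsAffine (pullback f u)) : IsAffine X := by
  let p := Spec.map f.appTop ≫ S.isoSpec.inv
  haveI := QuasiCompact.compactSpace_of_compactSpace f
  haveI : QuasiCompact X.toSpecΓ := quasiCompact_of_compactSpace _
  haveI : IsIso X.toSpecΓ := by
    refine FlatDesc26.isIso_of_forall_point X.toSpecΓ fun z => ?_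
    obtain ⟨T, u, _, _, ⟨t, ht⟩, _⟩ := hcov (p z)
    refine ⟨_, pullback.fst p u, MorphismProperty.pullback_fst p u inferInstance, ?_,
      FlatDesc26.isIso_snd_toSpecΓ f u⟩
    obtain ⟨w, hw, -⟩ := Scheme.Pullback.exists_preimage_pullback (f := p) (g := u) z t ht.symm
    exact ⟨w, hw⟩
  exact ⟨inferInstance⟩

theorem isAffine_of_isAffine_base {X Z S : Scheme.{u}} [IsAffine S] (h : X ⟶ Z) [Surjective h] (g : Z ⟶ S)
    [IsSeparated g] [IsIntegralHom (h ≫ g)] (hfin : ∀ s : S, ((h ≫ g).base ⁻¹' {s}).Finite) : IsAffine Z := by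
  obtain ⟨A, ⟨e⟩⟩ : ∃ A : CommRingCat.{u}, Nonempty (S ≅ Spec A) := ⟨_, ⟨S.isoSpec⟩⟩
  haveI : IsIntegralHom (h ≫ g ≫ e.hom) := by rw [← Category.assoc]; infer_instance
  haveI : QuasiCompact (g ≫ e.hom) := by
    haveI : UniversallyClosed (g ≫ e.hom) := UniversallyClosed.of_comp_surjective h _
    infer_instance
  refine isAffine_of_forall_point (g ≫ e.hom) fun p => ?_
  haveI : (p : PrimeSpectrum A).asIdeal.IsPrime := (p : PrimeSpectrum A).isPrime
  let R := Localization.AtPrime (p : PrimeSpectrum A).asIdeal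
  let H := Hens.Hh R
  haveI := Hens.henselization_faithfullyFlat (R := R) (S := H)
  let ψ : A ⟶ CommRingCat.of H := CommRingCat.ofHom ((algebraMap R H).comp (algebraMap A R))
  let u : Spec (.of H) ⟶ Spec A := Spec.map ψ
  haveI : Flat u := by
    rw [Flat.SpecMap_iff]
    exact RingHom.Flat.comp (RingHom.flat_algebraMap_iff.2 inferInstance) (RingHom.flat_algebraMap_iff.2 inferInstance)
  let t₀ : Spec (.of H) := IsLocalRing.closedPoint H
  have hu : u t₀ = p := by
    refine PrimeSpectrum.ext ?_
    show (IsLocalRing.maximalIdeal H).comap ((algebraMap R H).comp (algebraMap A R)) = _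
    rw [← Ideal.comap_comap, ((IsLocalRing.local_hom_TFAE (algebraMap R H)).out 0 4 rfl rfl).mp inferInstance]
    exact Localization.AtPrime.comap_maximalIdeal
  refine ⟨_, u, inferInstance, inferInstance, ⟨t₀, hu⟩, ?_⟩
  let m : pullback (h ≫ g ≫ e.hom) u ⟶ pullback (g ≫ e.hom) u :=
    pullback.map _ _ _ _ h (𝟙 _) (𝟙 _) (by simp) (by simp)
  have hm : m ≫ pullback.snd (g ≫ e.hom) u = pullback.snd (h ≫ g ≫ e.hom) u :=
    (pullback.lift_snd _ _ _).trans (Category.comp_id _)
  haveI : Surjective m := by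
    have sq : IsPullback (pullback.fst (h ≫ g ≫ e.hom) u) m h (pullback.fst (g ≫ e.hom) u) := by
      refine IsPullback.of_bot ?_ (pullback.lift_fst _ _ _).symm (IsPullback.of_hasPullback (g ≫ e.hom) u)
      rw [hm]
      exact IsPullback.of_hasPullback (h ≫ g ≫ e.hom) u
    exact MorphismProperty.of_isPullback sq (inferInstance : Surjective h)
  haveI : IsIntegralHom (pullback.snd (h ≫ g ≫ e.hom) u) := MorphismProperty.pullback_snd _ _ inferInstance
  haveI : IsAffine (pullback (h ≫ g ≫ e.hom) u) := isAffine_of_isAffineHom (pullback.snd (h ≫ g ≫ e.hom) u)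
  haveI : IsSeparated (pullback.snd (g ≫ e.hom) u) := MorphismProperty.pullback_snd _ _ inferInstance
  let W := pullback (h ≫ g ≫ e.hom) u
  have hpre : (W.isoSpec.inv ≫ m) ≫ pullback.snd (g ≫ e.hom) u =
      Spec.map (Spec.preimage (W.isoSpec.inv ≫ pullback.snd (h ≫ g ≫ e.hom) u)) := by
    rw [Spec.map_preimage, Category.assoc, hm]
  refine isAffine_of_henselian_aux _ ?_ _ _ hpre ?_
  · rw [← IsIntegralHom.SpecMap_iff, Spec.map_preimage]; infer_instance
  rw [Spec.map_preimage]
  -- the closed fibre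
  let κ : CommRingCat.{u} := .of (IsLocalRing.ResidueField H)
  let j : Spec κ ⟶ Spec (.of H) := Spec.map (CommRingCat.ofHom (IsLocalRing.residue H))
  have hpreim : IsPreimmersion (j ≫ u) := by
    have e2 : j ≫ u = Spec.map (CommRingCat.ofHom ((IsLocalRing.residue H).comp (algebraMap R H))) ≫
        Spec.map (CommRingCat.ofHom (algebraMap A R)) := by
      simp only [j, u, ψ, ← Spec.map_comp]; rfl
    rw [e2]
    haveI : IsClosedImmersion (Spec.map (CommRingCat.ofHom ((IsLocalRing.residue H).comp (algebraMap R H)))) := by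
      refine IsClosedImmersion.spec_of_surjective _ fun x => ?_
      obtain ⟨y, hy⟩ := (Hens.henselization_residueField_bijective (R := R) (S := H)).2 x
      obtain ⟨r, rfl⟩ := IsLocalRing.residue_surjective y
      exact ⟨r, (IsLocalRing.ResidueField.map_residue (algebraMap R H) r).symm.trans hy⟩
    haveI : IsPreimmersion (Spec.map (CommRingCat.ofHom (algebraMap A R))) :=
      IsPreimmersion.of_isLocalization (p : PrimeSpectrum A).asIdeal.primeCompl
    infer_instance
  have hrj : Set.range j = {t₀} := by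
    refine Set.eq_singleton_iff_nonempty_unique_mem.2 ⟨Set.range_nonempty _, ?_⟩
    rintro _ ⟨x, rfl⟩
    refine PrimeSpectrum.ext ?_
    show (x : PrimeSpectrum (IsLocalRing.ResidueField H)).asIdeal.comap (IsLocalRing.residue H) = _
    rw [show (x : PrimeSpectrum (IsLocalRing.ResidueField H)).asIdeal = ⊥ from
      (Ideal.eq_bot_or_top _).resolve_right (x : PrimeSpectrum _).isPrime.ne_top, ← RingHom.ker_eq_comap_bot]
    exact IsLocalRing.ker_residue
  let f := h ≫ g ≫ e.hom
  let k := pullback.fst (pullback.snd f u) j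
  haveI : IsPreimmersion (k ≫ pullback.fst f u) := by
    haveI := hpreim
    rw [show k ≫ pullback.fst f u = (pullbackLeftPullbackSndIso f u j).hom ≫ pullback.fst f (j ≫ u) from
      (pullbackLeftPullbackSndIso_hom_fst f u j).symm]
    haveI : IsPreimmersion (pullback.fst f (j ≫ u)) := MorphismProperty.pullback_fst _ _ hpreim
    infer_instance
  have hfib : ((pullback.snd f u).base ⁻¹' {t₀}).Finite := by
    rw [← hrj, ← Scheme.Pullback.range_fst]
    refine Set.Finite.subset ?_ (subset_refl _)
    have : Finite ↑(pullback (pullback.snd f u) j).carrier := by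
      have hmap : ∀ x, (k ≫ pullback.fst f u) x ∈ (h ≫ g).base ⁻¹' {e.inv p} := by
        intro x
        have h1 : (pullback.snd f u) (k x) = t₀ := by
          rw [← Scheme.Hom.comp_apply, pullback.condition, Scheme.Hom.comp_apply]
          exact hrj.subset ⟨_, rfl⟩
        have h2 : f ((k ≫ pullback.fst f u) x) = p := by
          have c : pullback.fst f u ≫ f = pullback.snd f u ≫ u := pullback.condition
          have := congr($c (k x))
          simp only [Scheme.Hom.comp_apply] at this ⊢
          rw [this, h1, hu]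
        show (h ≫ g) _ = e.inv p
        refine Eq.trans ?_ (congrArg e.inv h2)
        show _ = ((f ≫ e.inv) ((k ≫ pullback.fst _ u) x))
        rw [show f ≫ e.inv = h ≫ g by simp [f]]
      haveI := (hfin (e.inv p)).to_subtype
      exact Finite.of_injective (fun x => (⟨_, hmap x⟩ : ((h ≫ g).base ⁻¹' {e.inv p} : Set X)))
        fun a b hab => (k ≫ pullback.fst f u).isEmbedding.injective (congrArg Subtype.val hab)
    exact Set.finite_range _
  refine (hfib.preimage (W.isoSpec.inv.homeomorph.injective.injOn)).subset ?_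
  intro x hx
  exact hx

/-- A separated scheme surjected upon by a scheme integral over the base with finite fibres is integral over the base. -/
theorem isIntegralHom_of_surjective_comp {X Z S : Scheme.{u}} (h : X ⟶ Z) [Surjective h] (g : Z ⟶ S)
    [IsSeparated g] [IsIntegralHom (h ≫ g)] (hfin : ∀ s : S, ((h ≫ g).base ⁻¹' {s}).Finite) :
    IsIntegralHom g ∧ ∀ s : S, (g.base ⁻¹' {s}).Finite := by
  refine ⟨IsIntegralHom.iff_universallyClosed_and_isAffineHom.2
    ⟨UniversallyClosed.of_comp_surjective h g, ⟨fun U hU => ?_⟩⟩, fun s => ((hfin s).image h).subset fun z hz => ?_⟩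
  · haveI : IsAffine U := hU
    haveI : Surjective (h ∣_ g ⁻¹ᵁ U) := IsZariskiLocalAtTarget.restrict (P := @Surjective) ‹Surjective h› _
    haveI : IsIntegralHom (h ∣_ g ⁻¹ᵁ U ≫ g ∣_ U) := by
      rw [← morphismRestrict_comp]; exact IsZariskiLocalAtTarget.restrict ‹_› _
    refine isAffine_of_isAffine_base (h ∣_ g ⁻¹ᵁ U) (g ∣_ U) fun s => ?_
    refine Set.Finite.subset ((hfin s.1).preimage Subtype.val_injective.injOn) fun x hx => ?_
    simp only [Set.mem_preimage, Set.mem_singleton_iff] at hx ⊢
    rw [← hx]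
    show (h ≫ g) x.1 = ((h ∣_ g ⁻¹ᵁ U ≫ g ∣_ U) x).1
    rw [← morphismRestrict_comp]
    exact (morphismRestrict_base_coe (h ≫ g) U x).symm
  · obtain ⟨x, rfl⟩ := h.surjective z
    exact ⟨x, hz, rfl⟩

end Groth.Agent.IntImage26
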